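import Groth.Prelude.Def_EGA4c
import Groth.Prelude.Def_CAlg
import Groth.Agent.Depth.Basic
import Groth.Agent.FlatCodim.Basic
import Mathlib.RingTheory.Ideal.AssociatedPrime.Basic
import Mathlib.RingTheory.Spectrum.Prime.Noetherian

/-!
# Restriction of `M~` to the complement of `V(J)`: injectivity and bijectivity

Sections are handled as functions `x ↦ M_x`.
-/

set_option autoImplicit false

universe u

open AlgebraicGeometry TopologicalSpace Opposite CategoryTheory

namespace Groth.Agent.TildeCompl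

variable {A : Type u} [CommRing A] {M : Type u} [AddCommGroup M] [Module A M]

/-- Sections of `M~` over `U`. -/
abbrev Sec (M : Type u) [AddCommGroup M] [Module A M] (U : Opens (PrimeSpectrum.Top A)) : Type u :=
  (structureSheafInType A M).obj.obj (op U)

lemma Sec.ext {U : Opens (PrimeSpectrum.Top A)} {z w : Sec M U} (h : ∀ x : U, z.1 x = w.1 x) : z = w :=
  Subtype.ext (funext h)

lemma toOpen_apply (U : Opens (PrimeSpectrum.Top A)) (m : M) (x : U) :
    (StructureSheaf.toOpenₗ A M U m).1 x =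
      LocalizedModule.mk m ⟨1, x.1.asIdeal.primeCompl.one_mem⟩ := rfl

lemma toOpen_eq_zero_iff (U : Opens (PrimeSpectrum.Top A)) (m : M) :
    StructureSheaf.toOpenₗ A M U m = 0 ↔ ∀ x : U, ∃ t ∉ x.1.asIdeal, t • m = 0 := by
  constructor
  · intro h x
    have hx : LocalizedModule.mk m (⟨1, x.1.asIdeal.primeCompl.one_mem⟩ : x.1.asIdeal.primeCompl) =
        LocalizedModule.mk 0 1 := by
      rw [← toOpen_apply, h, LocalizedModule.zero_mk]; rfl
    obtain ⟨t, ht⟩ := LocalizedModule.mk_eq.1 hx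
    exact ⟨t, t.2, by simpa [Submonoid.smul_def] using ht⟩
  · intro h
    refine Sec.ext fun x => ?_
    obtain ⟨t, ht, htm⟩ := h x
    rw [toOpen_apply]
    show _ = (0 : LocalizedModule x.1.asIdeal.primeCompl M)
    rw [← LocalizedModule.zero_mk (1 : x.1.asIdeal.primeCompl)]
    exact LocalizedModule.mk_eq.2 ⟨⟨t, ht⟩, by simp [Submonoid.smul_def, htm]⟩

lemma mem_openCompl {J : Ideal A} {x : PrimeSpectrum.Top A} :
    x ∈ EGA4.openCompl A J ↔ ¬ J ≤ x.asIdeal := by
  show ¬ (J : Set A) ⊆ x.asIdeal ↔ _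
  rw [SetLike.coe_subset_coe]

lemma bijective_restrCompl_iff (J : Ideal A) :
    Function.Bijective (EGA4.restrCompl A J M) ↔
      Function.Bijective (StructureSheaf.toOpenₗ A M (EGA4.openCompl A J)) := by
  have h := StructureSheaf.toOpenₗ_top_bijective (R := A) (M := M)
  have e : ((StructureSheaf.toOpenₗ A M (EGA4.openCompl A J)) : M → _) =
      (EGA4.restrCompl A J M : _ → _) ∘ (StructureSheaf.toOpenₗ A M ⊤ : M → _) := rfl
  rw [e]
  exact (Function.Bijective.of_comp_iff _ h).symm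

lemma injective_restrCompl_iff (J : Ideal A) :
    Function.Injective (EGA4.restrCompl A J M) ↔
      ∀ m : M, (∀ x : PrimeSpectrum A, ¬ J ≤ x.asIdeal → ∃ t ∉ x.asIdeal, t • m = 0) → m = 0 := by
  have h := StructureSheaf.toOpenₗ_top_bijective (R := A) (M := M)
  have e : ((StructureSheaf.toOpenₗ A M (EGA4.openCompl A J)) : M → _) =
      (EGA4.restrCompl A J M : _ → _) ∘ (StructureSheaf.toOpenₗ A M ⊤ : M → _) := rfl
  have : Function.Injective (EGA4.restrCompl A J M) ↔
      Function.Injective (StructureSheaf.toOpenₗ A M (EGA4.openCompl A J)) := by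
    rw [e]
    exact (Function.Injective.of_comp_iff' _ h).symm
  rw [this, injective_iff_map_eq_zero]
  refine forall_congr' fun m => imp_congr_left ?_
  rw [toOpen_eq_zero_iff]
  exact ⟨fun h x hx => h ⟨x, mem_openCompl.2 hx⟩, fun h x => h x.1 (mem_openCompl.1 x.2)⟩

variable [IsNoetherianRing A]

/-- A finite cover by basic opens on which a section is a fraction. -/
lemma exists_fractions {U : Opens (PrimeSpectrum.Top A)} (z : Sec M U) :
    ∃ s : Finset (A × M), (∀ p ∈ s, PrimeSpectrum.basicOpen p.1 ≤ U) ∧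
      (∀ x : U, ∃ p ∈ s, p.1 ∉ x.1.asIdeal) ∧
      ∀ p ∈ s, ∀ x : U, ∀ hx : p.1 ∉ x.1.asIdeal, z.1 x = LocalizedModule.mk p.2 ⟨p.1, hx⟩ := by
  classical
  have h : ∀ x : U, ∃ p : A × M, p.1 ∉ x.1.asIdeal ∧ PrimeSpectrum.basicOpen p.1 ≤ U ∧
      ∀ y : U, ∀ hy : p.1 ∉ y.1.asIdeal, z.1 y = LocalizedModule.mk p.2 ⟨p.1, hy⟩ := fun x => by
    obtain ⟨g, hg, i, f, hf⟩ := StructureSheaf.exists_const U z x.1 x.2
    exact ⟨(g, f), hg, i, fun y hy => (congrArg (fun w => w.1 ⟨y.1, hy⟩) hf).symm⟩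
  choose p hp hpU hpz using h
  have hc : IsCompact (X := PrimeSpectrum A) U.1 :=
    (inferInstance : NoetherianSpace (PrimeSpectrum A)).isCompact _
  obtain ⟨t, ht⟩ := hc.elim_finite_subcover (fun x : U => (PrimeSpectrum.basicOpen (p x).1 : Set (PrimeSpectrum A)))
    (fun x => (PrimeSpectrum.basicOpen (p x).1).2) fun x hx => Set.mem_iUnion.2 ⟨⟨x, hx⟩, hp ⟨x, hx⟩⟩
  refine ⟨t.image p, ?_, fun x => ?_, ?_⟩
  · simp only [Finset.forall_mem_image]; exact fun x _ => hpU x
  · obtain ⟨y, hy, hxy⟩ := Set.mem_iUnion₂.1 (ht x.2)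
    exact ⟨p y, Finset.mem_image_of_mem p hy, hxy⟩
  · simp only [Finset.forall_mem_image]; exact fun x _ => hpz x

lemma exists_pow_smul_eq_zero {m : M} {a : A}
    (h : ∀ x : PrimeSpectrum A, a ∉ x.asIdeal → ∃ t ∉ x.asIdeal, t • m = 0) :
    ∃ k : ℕ, a ^ k • m = 0 := by
  have ha : a ∈ Ideal.radical (LinearMap.ker (LinearMap.toSpanSingleton A M m)) := by
    rw [Ideal.radical_eq_sInf, Submodule.mem_sInf]
    rintro P ⟨hle, hP⟩
    by_contra hn
    obtain ⟨t, ht, htm⟩ := h ⟨P, hP⟩ hn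
    exact ht (hle (by simpa using htm))
  obtain ⟨k, hk⟩ := ha
  exact ⟨k, by simpa using hk⟩

/-- If a section of `M~` on `U` vanishes on the part of `U` where `a` is invertible, a power of `a`
kills it. -/
lemma exists_pow_smul_sec_eq_zero {U : Opens (PrimeSpectrum.Top A)} (z : Sec M U) (a : A)
    (h : ∀ x : U, a ∉ x.1.asIdeal → z.1 x = 0) : ∃ k : ℕ, a ^ k • z = 0 := by
  classical
  obtain ⟨s, hsU, hcov, hz⟩ := exists_fractions z
  have hk : ∀ p ∈ s, ∃ k : ℕ, (a * p.1) ^ k • p.2 = 0 := fun p hp => by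
    refine exists_pow_smul_eq_zero fun x hx => ?_
    have hpx : p.1 ∉ x.asIdeal := fun h => hx (x.asIdeal.mul_mem_left a h)
    have hax : a ∉ x.asIdeal := fun h => hx (x.asIdeal.mul_mem_right _ h)
    have hxU : x ∈ U := hsU p hp hpx
    have h0 := (hz p hp ⟨x, hxU⟩ hpx).symm.trans (h ⟨x, hxU⟩ hax)
    rw [← LocalizedModule.zero_mk (1 : x.asIdeal.primeCompl)] at h0
    obtain ⟨t, ht⟩ := LocalizedModule.mk_eq.1 h0
    exact ⟨t, t.2, by simpa [Submonoid.smul_def] using ht⟩
  choose! k hk using hk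
  refine ⟨s.sup k, Sec.ext fun x => ?_⟩
  obtain ⟨p, hp, hpx⟩ := hcov x
  rw [structureSheafInType.smul_apply, hz p hp x hpx, LocalizedModule.smul'_mk]
  show _ = (0 : LocalizedModule x.1.asIdeal.primeCompl M)
  rw [← LocalizedModule.zero_mk (1 : x.1.asIdeal.primeCompl)]
  refine LocalizedModule.mk_eq.2 ⟨⟨p.1, hpx⟩ ^ k p, ?_⟩
  simp only [Submonoid.smul_def, SubmonoidClass.coe_pow, Submonoid.coe_one, one_smul, smul_zero]
  rw [← Nat.add_sub_cancel' (Finset.le_sup hp : k p ≤ s.sup k), pow_add, smul_smul,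
    show p.1 ^ k p * (a ^ k p * a ^ (s.sup k - k p)) = a ^ (s.sup k - k p) * (a * p.1) ^ k p by ring,
    mul_smul, hk p hp, smul_zero]

/-- A section killed by an element regular at `P` is killed by an element outside `P`. -/
lemma exists_notMem_smul_sec_eq_zero {U : Opens (PrimeSpectrum.Top A)} (z : Sec M U) {P : Ideal A}
    [P.IsPrime] {s₁ : A} (hreg : ∀ m : M, s₁ • m = 0 → ∃ t ∉ P, t • m = 0)
    (h : s₁ • z = 0) : ∃ t ∉ P, t • z = 0 := by
  classical
  obtain ⟨s, hsU, hcov, hz⟩ := exists_fractions z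
  have ht : ∀ p ∈ s, ∃ t ∉ P, ∃ k : ℕ, (t * p.1 ^ k) • p.2 = 0 := fun p hp => by
    obtain ⟨k, hk⟩ := exists_pow_smul_eq_zero (m := s₁ • p.2) (a := p.1) fun x hx => by
      have hxU : x ∈ U := hsU p hp hx
      have h0 := congrArg (fun w : Sec M U => w.1 ⟨x, hxU⟩) h
      simp only [structureSheafInType.smul_apply, hz p hp ⟨x, hxU⟩ hx, LocalizedModule.smul'_mk] at h0
      replace h0 : LocalizedModule.mk (s₁ • p.2) (⟨p.1, hx⟩ : x.asIdeal.primeCompl) = LocalizedModule.mk 0 1 := by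
        rw [LocalizedModule.zero_mk]; exact h0
      obtain ⟨t, ht⟩ := LocalizedModule.mk_eq.1 h0
      exact ⟨t, t.2, by simpa [Submonoid.smul_def] using ht⟩
    obtain ⟨t, ht, htm⟩ := hreg (p.1 ^ k • p.2) (by rw [smul_comm]; exact hk)
    exact ⟨t, ht, k, by rw [mul_smul]; exact htm⟩
  choose! t ht k hk using ht
  refine ⟨∏ p ∈ s, t p, fun hmem => ?_, Sec.ext fun x => ?_⟩
  · obtain ⟨p, hp, hpP⟩ := (Ideal.IsPrime.prod_mem_iff (hp := ‹P.IsPrime›)).1 hmem
    exact ht p hp hpP
  · obtain ⟨p, hp, hpx⟩ := hcov x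
    rw [structureSheafInType.smul_apply, hz p hp x hpx, LocalizedModule.smul'_mk]
    show _ = (0 : LocalizedModule x.1.asIdeal.primeCompl M)
    rw [← LocalizedModule.zero_mk (1 : x.1.asIdeal.primeCompl)]
    refine LocalizedModule.mk_eq.2 ⟨⟨p.1, hpx⟩ ^ k p, ?_⟩
    simp only [Submonoid.smul_def, SubmonoidClass.coe_pow, Submonoid.coe_one, one_smul, smul_zero]
    obtain ⟨c, hc⟩ := Finset.dvd_prod_of_mem t hp
    rw [hc, smul_smul, show p.1 ^ k p * (t p * c) = c * (t p * p.1 ^ k p) by ring, mul_smul,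
      hk p hp, smul_zero]

/-- For every point of the complement some element outside it moves the section into the image. -/
lemma exists_notMem_smul_mem_range {U : Opens (PrimeSpectrum.Top A)} (z : Sec M U) (x : U) :
    ∃ a ∉ x.1.asIdeal, ∃ m : M, a • z = StructureSheaf.toOpenₗ A M U m := by
  obtain ⟨s, hsU, hcov, hz⟩ := exists_fractions z
  obtain ⟨p, hp, hpx⟩ := hcov x
  obtain ⟨k, hk⟩ := exists_pow_smul_sec_eq_zero (p.1 • z - StructureSheaf.toOpenₗ A M U p.2) p.1
    fun y hy => by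
      show (p.1 • z).1 y - (StructureSheaf.toOpenₗ A M U p.2).1 y = 0
      rw [structureSheafInType.smul_apply, hz p hp y hy, toOpen_apply, sub_eq_zero,
        LocalizedModule.smul'_mk]
      exact LocalizedModule.mk_eq.2 ⟨1, by simp [Submonoid.smul_def]⟩
  rw [smul_sub, sub_eq_zero, smul_smul, ← map_smul, ← pow_succ] at hk
  exact ⟨p.1 ^ (k + 1), fun h => hpx (Ideal.IsPrime.mem_of_pow_mem inferInstance _ h), _, hk⟩

lemma isPrime_colon {P : Ideal A} (hP : P ∈ associatedPrimes A M) :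
    P.IsPrime ∧ ∃ m : M, ∀ a, a ∈ P ↔ a • m = 0 := by
  obtain ⟨hP, m, rfl⟩ := isAssociatedPrime_iff.1 hP
  exact ⟨hP, m, fun a => by simp [Submodule.mem_colon_singleton]⟩

lemma exists_assoc_ge {m : M} (hm : m ≠ 0) :
    ∃ P ∈ associatedPrimes A M, ∀ a, a • m = 0 → a ∈ P := by
  obtain ⟨M', hM', hle⟩ := Ideal.exists_le_maximal (LinearMap.ker (LinearMap.toSpanSingleton A M m))
    (fun he => hm (by simpa using he.ge (Submodule.mem_top (x := (1 : A)))))
  have := hM'.isPrime
  obtain ⟨y, P, hP, -, hTP, hPy⟩ := FlatCodim.exists_prime_colon hle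
  refine ⟨P, isAssociatedPrime_iff.2 ⟨hP, y • m, ?_⟩, fun a ha => hTP (by simpa using ha)⟩
  ext a
  simp [hPy, Submodule.mem_colon_singleton, mul_smul]

/-- Purity along `Z` is absence of associated primes in `Z`. -/
theorem isPureAlong_iff {Z : Set (PrimeSpectrum A)} (hZ : StableUnderSpecialization Z) :
    EGA4.IsPureAlong Z M ↔ ∀ p : PrimeSpectrum A, p.asIdeal ∈ associatedPrimes A M → p ∉ Z := by
  constructor
  · intro h p hp hpZ
    obtain ⟨hP, m, hm⟩ := isPrime_colon hp
    have h0 : m = 0 := by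
      refine (injective_restrCompl_iff _).1 (h p.asIdeal fun q hq => hZ ?_ hpZ) m fun x hx => ?_
      · exact (PrimeSpectrum.le_iff_specializes p q).1 hq
      · obtain ⟨t, ht, htx⟩ := SetLike.not_le_iff_exists.1 hx
        exact ⟨t, htx, (hm t).1 ht⟩
    exact p.2.ne_top ((Ideal.eq_top_iff_one _).2 ((hm 1).2 (by rw [h0, smul_zero])))
  · intro h J hJ
    refine (injective_restrCompl_iff J).2 fun m hm => ?_
    by_contra hne
    obtain ⟨P, hP, hmP⟩ := exists_assoc_ge (A := A) hne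
    refine h ⟨P, hP.1⟩ hP (hJ ?_)
    rw [PrimeSpectrum.mem_zeroLocus, SetLike.coe_subset_coe]
    by_contra hn
    obtain ⟨t, ht, htm⟩ := hm ⟨P, hP.1⟩ hn
    exact ht (hmP t htm)

section Depth

variable (p : Ideal A) [p.IsPrime]

local notation "Mp" => LocalizedModule p.primeCompl M
local notation "Ap" => Localization.AtPrime p

omit [IsNoetherianRing A] in
lemma mk_eq_zero {m : M} {s : p.primeCompl} :
    LocalizedModule.mk m s = 0 ↔ ∃ t ∉ p, t • m = 0 := by
  rw [← LocalizedModule.zero_mk (1 : p.primeCompl), LocalizedModule.mk_eq]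
  constructor
  · rintro ⟨t, ht⟩
    exact ⟨t, t.2, by simpa [Submonoid.smul_def] using ht⟩
  · rintro ⟨t, ht, htm⟩
    exact ⟨⟨t, ht⟩, by simp [Submonoid.smul_def, htm]⟩

omit [IsNoetherianRing A] in
lemma algebraMap_smul_mk (a : A) (m : M) (s : p.primeCompl) :
    algebraMap A Ap a • LocalizedModule.mk m s = LocalizedModule.mk (a • m) s := by
  rw [algebraMap_smul, LocalizedModule.smul'_mk]

omit [IsNoetherianRing A] in
lemma algebraMap_mem_maximal {a : A} :
    algebraMap A Ap a ∈ IsLocalRing.maximalIdeal Ap ↔ a ∈ p :=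
  IsLocalization.AtPrime.to_map_mem_maximal_iff _ p a

/-- A regular element of the maximal ideal may be taken integral. -/
lemma exists_regular_num {r : Ap} (hr : r ∈ IsLocalRing.maximalIdeal Ap) :
    ∃ (s : A) (u : Apˣ), s ∈ p ∧ algebraMap A Ap s = u * r := by
  obtain ⟨⟨s, v⟩, rfl⟩ := IsLocalization.mk'_surjective p.primeCompl r
  refine ⟨s, (IsLocalization.map_units Ap v).unit,
    (IsLocalization.AtPrime.mk'_mem_maximal_iff _ p s v).1 hr, ?_⟩
  rw [IsUnit.unit_spec, mul_comm, IsLocalization.mk'_spec]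

variable [Module.Finite A M]

/-- If some element of `M` has annihilator exactly `p` locally, the depth at `p` is zero. -/
lemma depth_localized_ne_zero_iff :
    1 ≤ LocCoh.depth Ap Mp ↔ p ∉ associatedPrimes A M := by
  constructor
  · intro h hp
    obtain ⟨hP, m, hm⟩ := isPrime_colon hp
    have hne : LocalizedModule.mk m (1 : p.primeCompl) ≠ 0 := fun h0 => by
      obtain ⟨t, ht, htm⟩ := (mk_eq_zero p).1 h0
      exact ht ((hm t).2 htm)
    have : Nontrivial Mp := ⟨_, _, hne⟩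
    obtain ⟨r, hr, hreg⟩ :=
      (Depth.one_le_idealDepth_iff Depth.maximalIdeal_smul_top_ne_top).1 h
    obtain ⟨s, u, hs, hsu⟩ := exists_regular_num p hr
    refine hne (hreg (?_ : r • _ = r • (0 : Mp)))
    have h1 : algebraMap A Ap s • LocalizedModule.mk m (1 : p.primeCompl) = 0 := by
      rw [algebraMap_smul_mk, (hm s).1 hs, LocalizedModule.zero_mk]
    rw [smul_zero, show r = (↑u⁻¹ : Ap) * algebraMap A Ap s by rw [hsu, Units.inv_mul_cancel_left],
      mul_smul, h1, smul_zero]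
  · intro hp
    rcases subsingleton_or_nontrivial Mp with h | h
    · rw [LocCoh.depth, Depth.idealDepth_of_subsingleton]; exact le_top
    · refine Order.one_le_iff_ne_zero.2 fun h0 => hp ?_
      obtain ⟨-, w, hw⟩ := isPrime_colon (Depth.depth_eq_zero_iff.1 h0)
      induction w using LocalizedModule.induction_on with
      | _ m v =>
        have hg : ∀ a ∈ p, ∃ t ∉ p, t • (a • m) = 0 := fun a ha => (mk_eq_zero p (s := v)).1
          ((algebraMap_smul_mk p a m v).symm.trans ((hw _).1 ((algebraMap_mem_maximal p).2 ha)))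
        obtain ⟨S, hS⟩ := (IsNoetherian.noetherian p : p.FG)
        choose! t ht htm using hg
        refine isAssociatedPrime_iff.2 ⟨inferInstance, (∏ g ∈ S, t g) • m, ?_⟩
        ext a
        simp only [Submodule.mem_colon_singleton, Submodule.mem_bot]
        constructor
        · intro ha
          rw [← hS] at ha
          refine Submodule.span_induction (fun g hg => ?_) (by simp)
            (fun x y _ _ hx hy => by rw [add_smul, hx, hy, add_zero])
            (fun c x _ hx => by rw [smul_eq_mul, mul_smul, hx, smul_zero]) ha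
          obtain ⟨c, hc⟩ := Finset.dvd_prod_of_mem t hg
          rw [hc, smul_smul, show g * (t g * c) = c * t g * g by ring, mul_smul, mul_smul,
            htm g (hS ▸ Submodule.subset_span hg), smul_zero]
        · intro ha
          by_contra hap
          have hprod : ∏ g ∈ S, t g ∉ p := fun hmem => by
            obtain ⟨g, hg, hgp⟩ := (Ideal.IsPrime.prod_mem_iff (hp := ‹p.IsPrime›)).1 hmem
            exact ht g (hS ▸ Submodule.subset_span hg) hgp
          have : LocalizedModule.mk m v = 0 := (mk_eq_zero p).2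
            ⟨a * ∏ g ∈ S, t g, Ideal.IsPrime.mul_notMem inferInstance hap hprod, by
              rw [mul_smul]; exact ha⟩
          refine (IsLocalRing.maximalIdeal.isMaximal Ap).ne_top ((Ideal.eq_top_iff_one _).2 ((hw 1).2 ?_))
          rw [this, smul_zero]

/-- Numerators of a regular pair. -/
lemma exists_pair (h : 2 ≤ LocCoh.depth Ap Mp) [Nontrivial Mp] :
    ∃ s₁ ∈ p, ∃ s₂ ∈ p, (∀ m : M, s₁ • m = 0 → ∃ t ∉ p, t • m = 0) ∧
      ∀ m₁ m₂ : M, (∃ t ∉ p, t • (s₁ • m₂ - s₂ • m₁) = 0) →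
        ∃ t ∉ p, ∃ e : M, t • m₁ = s₁ • e := by
  obtain ⟨rs, hl, hm, hr⟩ :=
    (Depth.le_idealDepth_iff_exists Depth.maximalIdeal_smul_top_ne_top (n := 2)).1 h
  obtain ⟨r₁, r₂, rfl⟩ := List.length_eq_two.1 hl
  rw [RingTheory.Sequence.isWeaklyRegular_cons_iff,
    RingTheory.Sequence.isWeaklyRegular_singleton_iff] at hr
  obtain ⟨s₁, u₁, hs₁, hsu₁⟩ := exists_regular_num p (hm r₁ List.mem_cons_self)
  obtain ⟨s₂, u₂, hs₂, hsu₂⟩ := exists_regular_num p (hm r₂ (List.mem_cons_of_mem _ List.mem_cons_self))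
  refine ⟨s₁, hs₁, s₂, hs₂, fun m hm => ?_, fun m₁ m₂ hc => ?_⟩
  · refine (mk_eq_zero p (s := 1)).1 (hr.1 (?_ : r₁ • _ = r₁ • (0 : Mp)))
    rw [smul_zero, show r₁ = (↑u₁⁻¹ : Ap) * algebraMap A Ap s₁ by rw [hsu₁, Units.inv_mul_cancel_left],
      mul_smul, algebraMap_smul_mk, hm, LocalizedModule.zero_mk, smul_zero]
  · have he : algebraMap A Ap s₂ • LocalizedModule.mk m₁ (1 : p.primeCompl) =
        algebraMap A Ap s₁ • LocalizedModule.mk m₂ (1 : p.primeCompl) := by
      obtain ⟨t, ht, htm⟩ := hc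
      rw [algebraMap_smul_mk, algebraMap_smul_mk]
      refine LocalizedModule.mk_eq.2 ⟨⟨t, ht⟩, ?_⟩
      rw [smul_sub, sub_eq_zero] at htm
      simp [Submonoid.smul_def, htm]
    have hz : Submodule.Quotient.mk ((u₂ : Ap) • LocalizedModule.mk m₁ (1 : p.primeCompl)) =
        (0 : QuotSMulTop r₁ Mp) := by
      refine hr.2 (?_ : r₂ • _ = r₂ • (0 : QuotSMulTop r₁ Mp))
      rw [smul_zero, ← Submodule.Quotient.mk_smul, Submodule.Quotient.mk_eq_zero, smul_smul,
        mul_comm, ← hsu₂, he, hsu₁, mul_comm, mul_smul]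
      exact Submodule.smul_mem_pointwise_smul _ _ _ trivial
    rw [Submodule.Quotient.mk_eq_zero] at hz
    obtain ⟨e, -, hee⟩ := Submodule.mem_smul_pointwise_iff_exists _ _ _ |>.1 hz
    obtain ⟨e', he'⟩ : ∃ e', LocalizedModule.mk m₁ (1 : p.primeCompl) = algebraMap A Ap s₁ • e' := by
      refine ⟨(↑u₁⁻¹ : Ap) • (↑u₂⁻¹ : Ap) • e, ?_⟩
      rw [hsu₁, smul_smul, show (u₁ : Ap) * r₁ * ↑u₁⁻¹ = r₁ from by
        rw [mul_right_comm, Units.mul_inv, one_mul], smul_comm, hee, smul_smul, Units.inv_mul, one_smul]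
    induction e' using LocalizedModule.induction_on with
    | _ f v =>
      rw [algebraMap_smul_mk, LocalizedModule.mk_eq] at he'
      obtain ⟨w, hw⟩ := he'
      refine ⟨w * v, Ideal.IsPrime.mul_notMem inferInstance w.2 v.2, (w : A) • f, ?_⟩
      simp only [Submonoid.smul_def, Submonoid.coe_one, one_smul] at hw
      rw [mul_smul, hw, smul_comm]

end Depth

/-- Closedness along `Z` from depth `≥ 2` at the points of `Z`. -/
theorem isClosedAlong_of_depth [Module.Finite A M] {Z : Set (PrimeSpectrum A)}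
    (hZ : StableUnderSpecialization Z)
    (h : ∀ p : PrimeSpectrum A, p ∈ Z →
      (2 : ℕ∞) ≤ LocCoh.depth (Localization.AtPrime p.asIdeal) (LocalizedModule p.asIdeal.primeCompl M)) :
    EGA4.IsClosedAlong Z M := by
  have hpure : EGA4.IsPureAlong Z M := (isPureAlong_iff hZ).2 fun p hp hpZ =>
    (depth_localized_ne_zero_iff p.asIdeal).1 (le_trans (by norm_num) (h p hpZ)) hp
  intro J hJ
  refine ⟨hpure J hJ, ?_⟩
  refine ((bijective_restrCompl_iff J).2 ⟨?_, ?_⟩).2
  · rw [injective_iff_map_eq_zero]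
    intro m hm
    rw [toOpen_eq_zero_iff] at hm
    exact (injective_restrCompl_iff J).1 (hpure J hJ) m fun x hx => hm ⟨x, mem_openCompl.2 hx⟩
  intro z
  set ι := StructureSheaf.toOpenₗ A M (EGA4.openCompl A J)
  let T : Ideal A := (LinearMap.range ι).comap (LinearMap.toSpanSingleton A _ z)
  by_contra hz
  obtain ⟨Q, hQ, hle⟩ := Ideal.exists_le_maximal T fun he => hz (by
    simpa [T, LinearMap.mem_range] using he.ge (Submodule.mem_top (x := (1 : A))))
  have := hQ.isPrime
  obtain ⟨y, P, hP, -, hTP, hPy⟩ := FlatCodim.exists_prime_colon hle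
  have hPZ : (⟨P, hP⟩ : PrimeSpectrum A) ∈ Z := by
    refine hJ ?_
    rw [PrimeSpectrum.mem_zeroLocus, SetLike.coe_subset_coe]
    by_contra hn
    obtain ⟨a, ha, m, hm⟩ := exists_notMem_smul_mem_range z
      ⟨⟨P, hP⟩, mem_openCompl.2 hn⟩
    exact ha (hTP ⟨m, hm.symm⟩)
  have hmemT : ∀ s, s ∈ P ↔ ∃ m, ι m = s • y • z := fun s => by
    rw [hPy]
    simp [T, mul_smul, LinearMap.mem_range]
  have hd := h _ hPZ
  rcases subsingleton_or_nontrivial (LocalizedModule P.primeCompl M) with hs | hs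
  · -- `M` vanishes at `P`: the section dies near `P`
    obtain ⟨s, hsP, hsz⟩ : ∃ t ∉ P, t • (y • z) = 0 :=
      exists_notMem_smul_sec_eq_zero _ (s₁ := 0)
        (fun m _ => (mk_eq_zero P (s := 1)).1 (Subsingleton.elim _ _)) (zero_smul A _)
    exact hsP ((hmemT s).2 ⟨0, by rw [map_zero, hsz]⟩)
  obtain ⟨s₁, hs₁, s₂, hs₂, hreg, hpair⟩ := exists_pair P hd
  obtain ⟨m₁, hm₁⟩ := (hmemT s₁).1 hs₁
  obtain ⟨m₂, hm₂⟩ := (hmemT s₂).1 hs₂
  have h0 : s₁ • m₂ - s₂ • m₁ = 0 := by
    refine (injective_restrCompl_iff J).1 (hpure J hJ) _ fun x hx => ?_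
    have : ι (s₁ • m₂ - s₂ • m₁) = 0 := by
      rw [map_sub, map_smul, map_smul, hm₁, hm₂, smul_comm s₁ s₂, sub_self]
    exact (toOpen_eq_zero_iff _ _).1 this ⟨x, mem_openCompl.2 hx⟩
  obtain ⟨t, ht, e, he⟩ := hpair m₁ m₂ ⟨1, hP.one_notMem, by rw [h0, smul_zero]⟩
  obtain ⟨t', ht', hz'⟩ := exists_notMem_smul_sec_eq_zero (t • y • z - ι e) (s₁ := s₁) hreg (by
    rw [smul_sub, smul_comm s₁ t, ← hm₁, ← map_smul, ← map_smul, he, sub_self])
  refine hP.mul_notMem ht' ht ((hmemT _).2 ⟨t' • e, ?_⟩)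
  rw [smul_sub, sub_eq_zero] at hz'
  rw [map_smul, ← hz', smul_smul]

/-- Depth `≥ 2` from closedness along `Z`. -/
theorem two_le_depth_of_isClosedAlong [Module.Finite A M] {Z : Set (PrimeSpectrum A)}
    (hZ : StableUnderSpecialization Z) (h : EGA4.IsClosedAlong Z M) (p : PrimeSpectrum A) (hp : p ∈ Z) :
    (2 : ℕ∞) ≤ LocCoh.depth (Localization.AtPrime p.asIdeal) (LocalizedModule p.asIdeal.primeCompl M) := by
  classical
  set P := p.asIdeal
  rcases subsingleton_or_nontrivial (LocalizedModule P.primeCompl M) with hs | hs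
  · rw [LocCoh.depth, Depth.idealDepth_of_subsingleton]; exact le_top
  have hpure : EGA4.IsPureAlong Z M := fun J hJ => (h J hJ).1
  obtain ⟨r, hr, hreg⟩ := (Depth.one_le_idealDepth_iff Depth.maximalIdeal_smul_top_ne_top).1
    ((depth_localized_ne_zero_iff P).2 fun hass => (isPureAlong_iff hZ).1 hpure p hass hp)
  rw [LocCoh.depth, ← Depth.idealDepth_quotSMulTop_add_one _ hr hreg, ← one_add_one_eq_two]
  refine add_le_add_left ?_ 1
  rcases subsingleton_or_nontrivial (QuotSMulTop r (LocalizedModule P.primeCompl M)) with hq | hq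
  · rw [Depth.idealDepth_of_subsingleton]; exact le_top
  refine Order.one_le_iff_ne_zero.2 fun h0 => ?_
  obtain ⟨-, w, hw⟩ := isPrime_colon (Depth.depth_eq_zero_iff.1 h0)
  obtain ⟨w, rfl⟩ := Submodule.Quotient.mk_surjective _ w
  have hmax : ∀ a, a ∈ IsLocalRing.maximalIdeal (Localization.AtPrime P) →
      ∃ e, a • w = r • e := fun a ha => by
    have := (hw a).1 ha
    rw [← Submodule.Quotient.mk_smul, Submodule.Quotient.mk_eq_zero,
      Submodule.mem_smul_pointwise_iff_exists] at this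
    obtain ⟨e, -, he⟩ := this
    exact ⟨e, he.symm⟩
  obtain ⟨s, u, hs', hsu⟩ := exists_regular_num P hr
  suffices hmem : ∃ e, w = algebraMap A (Localization.AtPrime P) s • e by
    obtain ⟨e, rfl⟩ := hmem
    refine (IsLocalRing.maximalIdeal.isMaximal (Localization.AtPrime P)).ne_top
      ((Ideal.eq_top_iff_one _).2 ((hw 1).2 ?_))
    rw [one_smul, Submodule.Quotient.mk_eq_zero, hsu, mul_comm, mul_smul]
    exact Submodule.smul_mem_pointwise_smul _ _ _ trivial
  induction w using LocalizedModule.induction_on with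
  | _ m v =>
    obtain ⟨S, hS⟩ := (IsNoetherian.noetherian P : P.FG)
    have hSP : ∀ g ∈ S, g ∈ P := fun g hg => hS ▸ Submodule.subset_span hg
    have hg : ∀ g ∈ S, ∃ t ∉ P, ∃ e : M, t • (g • m) = s • e := fun g hg => by
      obtain ⟨e, he⟩ := hmax _ ((algebraMap_mem_maximal P).2 (hSP g hg))
      have he' : algebraMap A (Localization.AtPrime P) g • LocalizedModule.mk m v =
          algebraMap A (Localization.AtPrime P) s • ((↑u⁻¹ : Localization.AtPrime P) • e) := by
        rw [he, hsu, smul_smul, mul_right_comm, Units.mul_inv, one_mul]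
      generalize (↑u⁻¹ : Localization.AtPrime P) • e = e₀ at he'
      induction e₀ using LocalizedModule.induction_on with
      | _ f c =>
        rw [algebraMap_smul_mk, algebraMap_smul_mk, LocalizedModule.mk_eq] at he'
        obtain ⟨d, hd⟩ := he'
        refine ⟨d * c, Ideal.IsPrime.mul_notMem inferInstance d.2 c.2, ((d : A) * v) • f, ?_⟩
        simp only [Submonoid.smul_def] at hd
        rw [mul_smul, hd, smul_comm s, mul_smul]
    choose! t ht e he using hg
    -- regularity of `s` on the finitely many relations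
    have hsreg : ∀ m : M, s • m = 0 → ∃ t ∉ P, t • m = 0 := fun m hm => by
      refine (mk_eq_zero P (s := 1)).1 (hreg (?_ : r • _ = r • (0 : LocalizedModule P.primeCompl M)))
      rw [smul_zero, show r = (↑u⁻¹ : Localization.AtPrime P) * algebraMap A _ s by
        rw [hsu, Units.inv_mul_cancel_left], mul_smul, algebraMap_smul_mk, hm,
        LocalizedModule.zero_mk, smul_zero]
    let τ := ∏ g ∈ S, t g
    have hτ : τ ∉ P := fun hmem => by
      obtain ⟨g, hg, hgp⟩ := (Ideal.IsPrime.prod_mem_iff (hp := inferInstanceAs P.IsPrime)).1 hmem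
      exact ht g hg hgp
    have hε : ∀ g ∈ S, ∃ ε : M, g • (τ • m) = s • ε := fun g hg => by
      obtain ⟨c, hc⟩ := Finset.dvd_prod_of_mem t hg
      refine ⟨c • e g, ?_⟩
      show g • ((∏ g ∈ S, t g) • m) = _
      rw [hc, smul_comm s c, ← he g hg, smul_smul, smul_smul, smul_smul]
      congr 1; ring
    choose! ε hε using hε
    have hrel : ∀ q ∈ S ×ˢ S, ∃ d ∉ P, d • (q.1 • ε q.2 - q.2 • ε q.1) = 0 := fun q hq => by
      rw [Finset.mem_product] at hq
      refine hsreg _ ?_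
      rw [smul_sub, smul_comm s, smul_comm s q.2, ← hε _ hq.2, ← hε _ hq.1, smul_comm q.1, sub_self]
    choose! d hd hdrel using hrel
    let δ := ∏ q ∈ S ×ˢ S, d q
    have hδ : δ ∉ P := fun hmem => by
      obtain ⟨g, hg, hgp⟩ := (Ideal.IsPrime.prod_mem_iff (hp := inferInstanceAs P.IsPrime)).1 hmem
      exact hd g hg hgp
    have hagree : ∀ g ∈ S, ∀ g' ∈ S, g • (δ • ε g') = g' • (δ • ε g) := fun g hg g' hg' => by
      obtain ⟨c, hc⟩ := Finset.dvd_prod_of_mem d (Finset.mem_product.2 ⟨hg, hg'⟩ : (g, g') ∈ S ×ˢ S)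
      have h0 := congrArg (fun x => c • x) (hdrel (g, g') (Finset.mem_product.2 ⟨hg, hg'⟩))
      simp only [smul_sub, smul_zero, sub_eq_zero] at h0
      show g • ((∏ q ∈ S ×ˢ S, d q) • ε g') = g' • ((∏ q ∈ S ×ˢ S, d q) • ε g)
      rw [hc]
      simp only [smul_smul] at h0 ⊢
      calc (g * (d (g, g') * c)) • ε g' = (c * (d (g, g') * g)) • ε g' := by congr 1; ring
        _ = (c * (d (g, g') * g')) • ε g := h0
        _ = _ := by congr 1; ring
    set U := EGA4.openCompl A P
    have hcov : ∀ x : U, ∃ g ∈ S, g ∉ x.1.asIdeal := fun x => by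
      by_contra! hn
      exact mem_openCompl.1 x.2 (hS.ge.trans (Ideal.span_le.2 hn))
    choose G hG hGx using hcov
    let F : ∀ x : U, LocalizedModule x.1.asIdeal.primeCompl M :=
      fun x => LocalizedModule.mk (δ • ε (G x)) ⟨G x, hGx x⟩
    have hF : ∀ g ∈ S, ∀ y : U, ∀ hy : g ∉ y.1.asIdeal, F y = LocalizedModule.mk (δ • ε g) ⟨g, hy⟩ :=
      fun g hg y hy => LocalizedModule.mk_eq.2
        ⟨1, by simpa [Submonoid.smul_def] using hagree g hg (G y) (hG y)⟩
    let z : Sec M U := ⟨F, fun x => ⟨U ⊓ PrimeSpectrum.basicOpen (G x), ⟨x.2, hGx x⟩,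
      homOfLE inf_le_left, δ • ε (G x), G x, fun y => ⟨y.2.2, hF (G x) (hG x) ⟨y.1, y.2.1⟩ y.2.2⟩⟩⟩
    obtain ⟨m', hm'⟩ := ((bijective_restrCompl_iff P).1 (h P fun q hq =>
      hZ ((PrimeSpectrum.le_iff_specializes p q).1 hq) hp)).2 z
    have hkey : s • m' = (δ * τ) • m := by
      rw [← sub_eq_zero]
      refine (injective_restrCompl_iff P).1 (hpure P fun q hq =>
        hZ ((PrimeSpectrum.le_iff_specializes p q).1 hq) hp) _ fun x hx => ?_
      let x' : U := ⟨x, mem_openCompl.2 hx⟩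
      have hx' : LocalizedModule.mk m' (⟨1, x.asIdeal.primeCompl.one_mem⟩ : x.asIdeal.primeCompl) =
          LocalizedModule.mk (δ • ε (G x')) ⟨G x', hGx x'⟩ :=
        congrArg (fun w : Sec M U => w.1 x') hm'
      obtain ⟨c, hc⟩ := LocalizedModule.mk_eq.1 hx'
      simp only [Submonoid.smul_def, one_smul] at hc
      refine ⟨c * G x', Ideal.IsPrime.mul_notMem inferInstance c.2 (hGx x'), ?_⟩
      rw [smul_sub, sub_eq_zero, mul_smul, mul_smul, smul_comm (G x') s, smul_comm (c : A) s, hc,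
        ← smul_comm (c : A) s, smul_comm s δ, ← hε _ (hG x'), mul_smul, smul_comm (G x') δ]
    refine ⟨LocalizedModule.mk m' (⟨δ * τ, Ideal.IsPrime.mul_notMem inferInstance hδ hτ⟩ * v), ?_⟩
    rw [algebraMap_smul_mk, hkey]
    refine LocalizedModule.mk_eq.2 ⟨1, ?_⟩
    simp [Submonoid.smul_def, mul_smul]
    module

end Groth.Agent.TildeCompl
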